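import Mathlib

universe u v
namespace Groth.Agent.SmallH9g

open IsLocalRing in
theorem descend_parameters
    {A : Type u} [CommRing A] [IsRegularLocalRing A]
    {ι : Type v} [Preorder ι] [Nonempty ι] [IsDirected ι (· ≤ ·)]
    (B : ι → Type u) [∀ j, CommRing (B j)] [∀ j, IsRegularLocalRing (B j)]
    (φ : ∀ i j, i ≤ j → (B i →+* B j)) (hφloc : ∀ i j (h : i ≤ j), IsLocalHom (φ i j h))
    (hφ : ∀ i j l (hij : i ≤ j) (hjl : j ≤ l), (φ j l hjl).comp (φ i j hij) = φ i l (hij.trans hjl))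
    (ψ : ∀ j, B j →+* A) (hψ : ∀ i j (h : i ≤ j), (ψ j).comp (φ i j h) = ψ i)
    (hsurj : ∀ a : A, ∃ j, ∃ x : B j, ψ j x = a)
    (hker : ∀ j (x : B j), ψ j x = 0 → ∃ l, ∃ h : j ≤ l, φ j l h x = 0)
    (c d : ℕ) (f : Fin c → maximalIdeal A) (g : Fin d → maximalIdeal A)
    (hind : LinearIndependent (ResidueField A) (⇑(maximalIdeal A).toCotangent ∘ Sum.elim f g)) :
    ∃ j₀ : ι, ∃ (P : ∀ j, j₀ ≤ j → Ideal (B j)) (Q : ∀ j, j₀ ≤ j → Ideal (B j)),
      (∀ j (hj : j₀ ≤ j), ∃ (F : Fin c → maximalIdeal (B j)) (E : Fin d → maximalIdeal (B j)),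
        LinearIndependent (ResidueField (B j)) (⇑(maximalIdeal (B j)).toCotangent ∘ Sum.elim F E) ∧
        P j hj = Ideal.span (Set.range (fun s => (F s : B j))) ∧
        Q j hj = P j hj ⊔ Ideal.span (Set.range (fun t => (E t : B j)))) ∧
      (∀ i j (hi : j₀ ≤ i) (hij : i ≤ j),
        (P i hi).map (φ i j hij) = P j (le_trans hi hij) ∧ (Q i hi).map (φ i j hij) = Q j (le_trans hi hij)) ∧
      (∀ j (hj : j₀ ≤ j),
        (P j hj).map (ψ j) = Ideal.span (Set.range (fun s => (f s : A))) ∧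
        (Q j hj).map (ψ j) = Ideal.span (Set.range (fun s => (f s : A))) ⊔ Ideal.span (Set.range (fun t => (g t : A)))) := by
  classical
  let w : Fin c ⊕ Fin d → maximalIdeal A := Sum.elim f g
  choose st x hx using fun a : Fin c ⊕ Fin d => hsurj (w a : A)
  obtain ⟨j₀, hj₀⟩ := Finset.exists_le (Finset.univ.image st)
  have hst : ∀ a, st a ≤ j₀ := fun a => hj₀ _ (Finset.mem_image_of_mem _ (Finset.mem_univ a))
  let y : ∀ j, j₀ ≤ j → Fin c ⊕ Fin d → B j := fun j hj a => φ (st a) j ((hst a).trans hj) (x a)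
  have hy : ∀ j hj a, ψ j (y j hj a) = (w a : A) := fun j hj a =>
    (RingHom.congr_fun (hψ _ _ _) (x a)).trans (hx a)
  have hyφ : ∀ i j (hi : j₀ ≤ i) (hij : i ≤ j) a, φ i j hij (y i hi a) = y j (hi.trans hij) a :=
    fun i j hi hij a => RingHom.congr_fun (hφ _ _ _ _ _) (x a)
  have hψloc : ∀ j (z : B j), ψ j z ∈ maximalIdeal A → z ∈ maximalIdeal (B j) := fun j z hz hu =>
    hz ((hu : IsUnit z).map (ψ j))
  have hψmax : ∀ j (z : B j), z ∈ maximalIdeal (B j) → ψ j z ∈ maximalIdeal A := by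
    intro j z hz hu
    obtain ⟨i, w, hw⟩ := hsurj (↑hu.unit⁻¹ : A)
    obtain ⟨k, hjk, hik⟩ := exists_ge_ge j i
    have h0 : ψ k (φ j k hjk z * φ i k hik w - 1) = 0 := by
      rw [map_sub, map_mul, map_one, ← RingHom.comp_apply (ψ k), hψ, ← RingHom.comp_apply (ψ k), hψ,
        hw, hu.mul_val_inv, sub_self]
    obtain ⟨l, hkl, hl⟩ := hker k _ h0
    rw [map_sub, map_mul, map_one, sub_eq_zero, ← RingHom.comp_apply (φ k l hkl), hφ] at hl
    haveI := hφloc j l (hjk.trans hkl)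
    exact hz (IsUnit.of_map (φ j l (hjk.trans hkl)) z (IsUnit.of_mul_eq_one _ hl))
  let Y : ∀ j, j₀ ≤ j → Fin c ⊕ Fin d → maximalIdeal (B j) := fun j hj a =>
    ⟨y j hj a, hψloc j _ (by rw [hy j hj]; exact (w a).2)⟩
  refine ⟨j₀, fun j hj => Ideal.span (Set.range fun s => y j hj (Sum.inl s)),
    fun j hj => Ideal.span (Set.range fun s => y j hj (Sum.inl s)) ⊔
      Ideal.span (Set.range fun t => y j hj (Sum.inr t)), fun j hj => ?_, fun i j hi hij => ?_,
    fun j hj => ?_⟩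
  · refine ⟨fun s => Y j hj (Sum.inl s), fun t => Y j hj (Sum.inr t), ?_, rfl, rfl⟩
    rw [show Sum.elim (fun s => Y j hj (Sum.inl s)) (fun t => Y j hj (Sum.inr t)) = Y j hj from
      Sum.elim_comp_inl_inr (Y j hj)]
    rw [Fintype.linearIndependent_iff] at hind ⊢
    intro k hk a
    choose k' hk' using fun a => residue_surjective (k a)
    have hsum : ∑ a, k' a * y j hj a ∈ maximalIdeal (B j) ^ 2 := by
      have h1 : (maximalIdeal (B j)).toCotangent (∑ a, k' a • Y j hj a) = 0 := by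
        rw [map_sum]
        convert hk using 2 with a _
        rw [map_smul, ← hk' a]
        rfl
      rw [Ideal.toCotangent_eq_zero] at h1
      simpa [Submodule.coe_sum, Y] using h1
    have hmap : (maximalIdeal (B j) ^ 2).map (ψ j) ≤ maximalIdeal A ^ 2 := by
      rw [Ideal.map_pow]
      exact Ideal.pow_right_mono (Ideal.map_le_iff_le_comap.2 (hψmax j)) 2
    have h2 : ∑ a, ψ j (k' a) * (w a : A) ∈ maximalIdeal A ^ 2 := by
      have := hmap (Ideal.mem_map_of_mem (ψ j) hsum)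
      simpa [map_sum, map_mul, hy] using this
    have h3 : (maximalIdeal A).toCotangent (∑ a, ψ j (k' a) • w a) = 0 := by
      rw [Ideal.toCotangent_eq_zero]
      simpa [Submodule.coe_sum] using h2
    have h4 := hind (fun a => residue A (ψ j (k' a))) (by
      rw [← h3, map_sum]
      refine Finset.sum_congr rfl fun a _ => ?_
      rw [map_smul]
      rfl) a
    rw [residue_eq_zero_iff] at h4
    rw [← hk' a, residue_eq_zero_iff]
    exact hψloc j _ h4
  · refine ⟨?_, ?_⟩ <;>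
    · simp only [Ideal.map_sup, Ideal.map_span, ← Set.range_comp, Function.comp_def, hyφ]
  · refine ⟨?_, ?_⟩ <;>
    · simp only [Ideal.map_sup, Ideal.map_span, ← Set.range_comp, Function.comp_def, hy]
      rfl

end Groth.Agent.SmallH9g
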